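import Mathlib.Algebra.Polynomial.Derivative
import Mathlib.RingTheory.Polynomial.Basic
import Mathlib.LinearAlgebra.FiniteDimensional.Lemmas
import Mathlib.Tactic

namespace Groth.Agent.Wronsk52

open Polynomial

variable {k : Type*} [Field k]

/-- Multiples of a polynomial. -/
noncomputable abbrev mult (f : k[X]) : Submodule k k[X] := (Ideal.span {f}).restrictScalars k

theorem mem_mult {f G : k[X]} : G ∈ mult f ↔ f ∣ G := by
  rw [Submodule.restrictScalars_mem, Ideal.mem_span_singleton]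

/-- Membership form of the generating space. -/
theorem decomp {a b : ℕ} {P : k[X]}
    (hP : P ∈ (mult ((X : k[X]) ^ (a + 1)) ⊓ degreeLE k ↑(a + b)) ⊔
      (mult (((X : k[X]) - 1) ^ (b + 1)) ⊓ degreeLE k ↑(a + b)) ⊔
      Submodule.span k {(X : k[X]) ^ (a + 1) * (X - 1) ^ (b + 1)}) :
    ∃ (U U1 : k[X]) (c : k), U ∈ degreeLT k a ∧ U1 ∈ degreeLT k b ∧
      P = U * (X - 1) ^ (b + 1) + X ^ (a + 1) * U1 + C c * (X ^ (a + 1) * (X - 1) ^ (b + 1)) := by
  obtain ⟨P12, h12, P3, h3, rfl⟩ := Submodule.mem_sup.mp hP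
  obtain ⟨P1, ⟨h1, h1d⟩, P2, ⟨h2, h2d⟩, rfl⟩ := Submodule.mem_sup.mp h12
  obtain ⟨c, rfl⟩ := Submodule.mem_span_singleton.mp h3
  obtain ⟨U1, rfl⟩ := mem_mult.mp h1
  obtain ⟨U, rfl⟩ := mem_mult.mp h2
  have hne1 : ((X : k[X]) - 1) ^ (b + 1) ≠ 0 := pow_ne_zero _ (by simpa using X_sub_C_ne_zero (1 : k))
  refine ⟨U, U1, c, ?_, ?_, by rw [smul_eq_C_mul]; ring⟩
  · rw [mem_degreeLT]
    rcases eq_or_ne U 0 with rfl | h0
    · simp
    rw [← natDegree_lt_iff_degree_lt h0]
    rw [SetLike.mem_coe, mem_degreeLE, ← natDegree_le_iff_degree_le, natDegree_mul hne1 h0, natDegree_pow,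
      show ((X : k[X]) - 1).natDegree = 1 by simpa using natDegree_X_sub_C (1 : k), mul_one] at h2d
    omega
  · rw [mem_degreeLT]
    rcases eq_or_ne U1 0 with rfl | h0
    · simp
    rw [← natDegree_lt_iff_degree_lt h0]
    rw [SetLike.mem_coe, mem_degreeLE, ← natDegree_le_iff_degree_le,
      natDegree_mul (pow_ne_zero _ X_ne_zero) h0, natDegree_X_pow] at h1d
    omega

theorem coeff_eq_zero_of_mem {n : ℕ} {U : k[X]} (h : U ∈ degreeLT k n) {t : ℕ} (ht : n ≤ t) : U.coeff t = 0 :=
  coeff_eq_zero_of_degree_lt ((mem_degreeLT.mp h).trans_le (by exact_mod_cast ht))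

theorem natDegree_le_of_mem {n : ℕ} {U : k[X]} (h : U ∈ degreeLT k n) : U.natDegree ≤ n - 1 :=
  natDegree_le_iff_coeff_eq_zero.mpr fun _ ht => coeff_eq_zero_of_mem h (by omega)

theorem coprime_pow (a b : ℕ) : IsCoprime ((X : k[X]) ^ a) ((X - 1) ^ b) :=
  IsCoprime.pow ⟨1, -1, by ring⟩

theorem monicG (p q : k) (i j : ℕ) : ((X - C p) ^ i * (X - C q) ^ j).Monic :=
  ((monic_X_sub_C p).pow i).mul ((monic_X_sub_C q).pow j)

theorem natDegree_M (p q : k) (i j : ℕ) : ((X - C p) ^ i * (X - C q) ^ j).natDegree = i + j := by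
  rw [((monic_X_sub_C p).pow i).natDegree_mul ((monic_X_sub_C q).pow j)]
  simp

theorem nextCoeff_M (p q : k) (i j : ℕ) (h : 0 < i + j) :
    ((X - C p) ^ i * (X - C q) ^ j).coeff (i + j - 1) = -((i : k) * p + (j : k) * q) := by
  have e := ((monic_X_sub_C p).pow i).nextCoeff_mul ((monic_X_sub_C q).pow j)
  rw [nextCoeff_of_natDegree_pos (by rw [natDegree_M]; exact h), natDegree_M,
    (monic_X_sub_C p).nextCoeff_pow, (monic_X_sub_C q).nextCoeff_pow, nextCoeff_X_sub_C, nextCoeff_X_sub_C,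
    nsmul_eq_mul, nsmul_eq_mul] at e
  linear_combination e

theorem coeff_X_mul_derivative (U : k[X]) (t : ℕ) : (X * derivative U).coeff t = (t : k) * U.coeff t := by
  cases t with
  | zero => simp
  | succ t => rw [coeff_X_mul, coeff_derivative]; push_cast; ring

theorem coeff_X_mul_X_mul_derivative (U : k[X]) (t : ℕ) :
    (X * (X * derivative U)).coeff t = ((t : k) - 1) * (X * U).coeff t := by
  cases t with
  | zero => simp
  | succ t => rw [coeff_X_mul, coeff_X_mul, coeff_X_mul_derivative]; push_cast; ring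

/-- The key computation. -/
theorem core {a b i j : ℕ} (hij : i + j = a + 1 + b) (p q : k) (U U1 U' U1' : k[X]) (c : k)
    (hU : U ∈ degreeLT k (a + 1)) (hU1 : U1 ∈ degreeLT k b) (hU' : U' ∈ degreeLT k (a + 1))
    (hU1' : U1' ∈ degreeLT k b)
    (hM : (X - C p) ^ i * (X - C q) ^ j = U * (X - 1) ^ (b + 1) + X ^ (a + 2) * U1)
    (hR : (X - C p) ^ (i + 1) * (X - C q) ^ (j + 1) =
      U' * (X - 1) ^ (b + 1) + X ^ (a + 2) * U1' + C c * (X ^ (a + 2) * (X - 1) ^ (b + 1))) :
    ((i + 1 : ℕ) : k) * p + ((j + 1 : ℕ) : k) * q = ((b + 1 : ℕ) : k) ∧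
    (X - 1) * ((X - C p) * (X - C q)) * derivative U =
      U * (C (i : k) * ((X - 1) * (X - C q)) + C (j : k) * ((X - 1) * (X - C p)) -
        C ((b + 1 : ℕ) : k) * ((X - C p) * (X - C q))) := by
  -- first relation
  set g := (X - C p) * (X - C q) with hg
  have hgU : (g * U - U').coeff (a + 1) = 0 := by
    have hd : (X : k[X]) ^ (a + 2) ∣ (g * U - U') * (X - 1) ^ (b + 1) := by
      refine ⟨U1' + C c * (X - 1) ^ (b + 1) - g * U1, ?_⟩
      rw [hg]
      rw [pow_succ (X - C p), pow_succ (X - C q)] at hR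
      linear_combination hR - (X - C p) * (X - C q) * hM
    have hd' := (coprime_pow (a + 2) (b + 1)).dvd_of_dvd_mul_right hd
    exact (X_pow_dvd_iff.mp hd') (a + 1) (by omega)
  have hexp : g * U = X * (X * U) - C (p + q) * (X * U) + C (p * q) * U := by rw [hg, C_add, C_mul]; ring
  have hrel : (X * U).coeff a = (p + q) * U.coeff a := by
    rw [coeff_sub, coeff_eq_zero_of_mem hU' le_rfl, sub_zero, hexp, coeff_add, coeff_sub, coeff_C_mul, coeff_C_mul,
      coeff_X_mul, coeff_X_mul, coeff_eq_zero_of_mem hU le_rfl] at hgU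
    linear_combination hgU
  -- the relation at infinity
  have hinf : ((i + 1 : ℕ) : k) * p + ((j + 1 : ℕ) : k) * q = ((b + 1 : ℕ) : k) := by
    have h1 : ((X : k[X]) ^ (a + 2) * (X - 1) ^ (b + 1)) = (X - C 0) ^ (a + 2) * (X - C 1) ^ (b + 1) := by simp
    have hdeg : ∀ P : k[X], P ∈ degreeLT k (a + 1) → (P * (X - 1) ^ (b + 1)).natDegree ≤ a + b + 1 := fun P hP => by
      refine natDegree_mul_le.trans ?_
      have h2 := natDegree_pow_le (p := (X : k[X]) - 1) (n := b + 1)
      rw [show ((X : k[X]) - 1).natDegree = 1 by simpa using natDegree_X_sub_C (1 : k), mul_one] at h2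
      have := natDegree_le_of_mem hP
      omega
    have e2 := congrArg (fun P : k[X] => P.coeff (i + 1 + (j + 1) - 1)) hR
    simp only [nextCoeff_M p q (i + 1) (j + 1) (by omega), coeff_add, coeff_C_mul] at e2
    have e3 := congrArg (fun P : k[X] => P.coeff (i + 1 + (j + 1))) hR
    have hz : ∀ t, a + b + 2 ≤ t → (U' * (X - 1) ^ (b + 1)).coeff t = 0 ∧ ((X : k[X]) ^ (a + 2) * U1').coeff t = 0 := by
      intro t ht
      refine ⟨coeff_eq_zero_of_natDegree_lt (lt_of_le_of_lt (hdeg _ hU') (by omega)), ?_⟩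
      rw [coeff_X_pow_mul', if_pos (by omega), coeff_eq_zero_of_mem hU1' (by omega)]
    simp only [coeff_add, coeff_C_mul, (hz _ (show a + b + 2 ≤ i + 1 + (j + 1) by omega)).1,
      (hz _ (show a + b + 2 ≤ i + 1 + (j + 1) by omega)).2] at e3
    rw [← natDegree_M p q (i + 1) (j + 1), (monicG p q _ _).coeff_natDegree, natDegree_M p q (i + 1) (j + 1), h1,
      show i + 1 + (j + 1) = a + 2 + (b + 1) by omega, ← natDegree_M (0 : k) 1 (a + 2) (b + 1),
      (monicG (0 : k) 1 _ _).coeff_natDegree, zero_add, zero_add, mul_one] at e3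
    rw [(hz _ (show a + b + 2 ≤ i + 1 + (j + 1) - 1 by omega)).1,
      (hz _ (show a + b + 2 ≤ i + 1 + (j + 1) - 1 by omega)).2, h1,
      show i + 1 + (j + 1) - 1 = a + 2 + (b + 1) - 1 by omega, nextCoeff_M (0 : k) 1 (a + 2) (b + 1) (by omega),
      ← e3] at e2
    linear_combination -e2
  refine ⟨hinf, ?_⟩
  -- the differential equation
  set E := C (i : k) * ((X - 1) * (X - C q)) + C (j : k) * ((X - 1) * (X - C p)) - C ((b + 1 : ℕ) : k) * g with hE
  set Y := (X - 1) * g * derivative U - U * E with hY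
  have hdvd : (X : k[X]) ^ (a + 1) ∣ Y := by
    have hpow : ∀ (r : k) (t : ℕ), (X - C r) * derivative ((X - C r) ^ t) = C (t : k) * (X - C r) ^ t := by
      intro r t
      cases t with
      | zero => simp
      | succ t => rw [derivative_pow, derivative_X_sub_C, mul_one, Nat.add_sub_cancel, pow_succ]; ring
    have hode : g * derivative ((X - C p) ^ i * (X - C q) ^ j) =
        (C (i : k) * (X - C q) + C (j : k) * (X - C p)) * ((X - C p) ^ i * (X - C q) ^ j) := by
      rw [derivative_mul, hg]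
      linear_combination ((X - C q) * (X - C q) ^ j) * hpow p i + ((X - C p) * (X - C p) ^ i) * hpow q j
    rw [hM, derivative_add, derivative_mul, derivative_mul, derivative_X_pow, derivative_pow, Nat.add_sub_cancel,
      derivative_sub, derivative_X, derivative_one, sub_zero, mul_one, show a + 2 - 1 = a + 1 from rfl] at hode
    have : (X : k[X]) ^ (a + 1) ∣ Y * (X - 1) ^ b := by
      refine ⟨X * U1 * (C (i : k) * (X - C q) + C (j : k) * (X - C p)) -
        g * (C ((a + 2 : ℕ) : k) * U1 + X * derivative U1), ?_⟩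
      rw [hY, hE]
      linear_combination hode
    exact (coprime_pow (a + 1) b).dvd_of_dvd_mul_right this
  have hYexp : Y = X * (X * (X * derivative U)) - C (p + q + 1) * (X * (X * derivative U)) +
      C (p + q + p * q) * (X * derivative U) - C (p * q) * derivative U -
      (C (a : k) * (X * (X * U)) +
        C (-(i : k) * (q + 1) - (j : k) * (p + 1) + ((b + 1 : ℕ) : k) * (p + q)) * (X * U) +
        C ((i : k) * q + (j : k) * p - ((b + 1 : ℕ) : k) * (p * q)) * U) := by
    have hk : (i : k) + (j : k) = (a : k) + 1 + (b : k) := by exact_mod_cast congrArg (Nat.cast (R := k)) hij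
    rw [hY, hE, hg]
    simp only [Nat.cast_succ, C_add, C_sub, C_mul, C_neg, C_1]
    have hk' : C (i : k) + C (j : k) = C (a : k) + 1 + C (b : k) := by
      rw [← C_add, hk, C_add, C_add, C_1]
    linear_combination -(U * X ^ 2) * hk'
  have hz : ∀ t, a + 1 ≤ t → U.coeff t = 0 := fun t => coeff_eq_zero_of_mem hU
  have hY0 : Y = 0 := by
    by_contra hne
    have hle : Y.natDegree ≤ a := by
      rw [natDegree_le_iff_coeff_eq_zero]
      intro t ht
      obtain ⟨t, rfl⟩ : ∃ t', t = t' + 1 := ⟨t - 1, by omega⟩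
      rw [hYexp]
      simp only [coeff_add, coeff_sub, coeff_C_mul, coeff_X_mul, coeff_X_mul_derivative, coeff_X_mul_X_mul_derivative,
        coeff_derivative, hz (t + 1) (by omega), hz (t + 1 + 1) (by omega)]
      rcases (by omega : t = a ∨ t = a + 1 ∨ a + 2 ≤ t) with rfl | rfl | h
      · rw [hrel]
        push_cast at hinf ⊢
        have hk : (i : k) + (j : k) = (t : k) + 1 + (b : k) := by exact_mod_cast congrArg (Nat.cast (R := k)) hij
        linear_combination (-(U.coeff t)) * hinf + (U.coeff t * (p + q + 1)) * hk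
      · rw [hz (a + 1) le_rfl, coeff_X_mul]
        push_cast
        ring
      · rw [hz t (by omega), show ((X : k[X]) * U).coeff t = (0 : k) by
          obtain ⟨u, rfl⟩ : ∃ u, t = u + 1 := ⟨t - 1, by omega⟩
          rw [coeff_X_mul, hz u (by omega)]]
        ring
    have := natDegree_le_of_dvd hdvd hne
    rw [natDegree_X_pow] at this
    omega
  exact sub_eq_zero.mp hY0

theorem U_eq_zero [CharZero k] {b i j : ℕ} {p q : k} {U : k[X]} (hp : p ≠ 1) (hq : q ≠ 1)
    (h : (X - 1) * ((X - C p) * (X - C q)) * derivative U =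
      U * (C (i : k) * ((X - 1) * (X - C q)) + C (j : k) * ((X - 1) * (X - C p)) -
        C ((b + 1 : ℕ) : k) * ((X - C p) * (X - C q)))) : U = 0 := by
  by_contra h0
  obtain ⟨H, hH, hnd⟩ := exists_eq_pow_rootMultiplicity_mul_and_not_dvd U h0 1
  set s := rootMultiplicity 1 U
  rw [C_1] at hH hnd
  have hH1 : H.eval 1 ≠ 0 := fun h => hnd (by rw [← C_1]; exact dvd_iff_isRoot.mpr h)
  have hne : ((X : k[X]) - 1) ≠ 0 := by simpa using X_sub_C_ne_zero (1 : k)
  have key : ((X : k[X]) - 1) ^ s * ((X - C p) * (X - C q) * (C (s : k) * H + (X - 1) * derivative H) -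
      H * (C (i : k) * ((X - 1) * (X - C q)) + C (j : k) * ((X - 1) * (X - C p)) -
        C ((b + 1 : ℕ) : k) * ((X - C p) * (X - C q)))) = 0 := by
    rw [hH, derivative_mul, derivative_pow, derivative_sub, derivative_X, derivative_one, sub_zero, mul_one] at h
    clear_value s
    cases s with
    | zero =>
      simp only [Nat.cast_zero, C_0, zero_mul, pow_zero, one_mul, zero_add] at h ⊢
      linear_combination h
    | succ t =>
      rw [Nat.add_sub_cancel, pow_succ] at h
      rw [pow_succ]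
      linear_combination h
  have h1 := congrArg (eval 1) ((mul_eq_zero.mp key).resolve_left (pow_ne_zero _ hne))
  simp at h1
  have : ((1 : k) - p) * (1 - q) * H.eval 1 * ((s : k) + ((b : k) + 1)) = 0 := by linear_combination h1
  refine mul_ne_zero (mul_ne_zero (mul_ne_zero (sub_ne_zero.mpr hp.symm) (sub_ne_zero.mpr hq.symm)) hH1) ?_ this
  exact_mod_cast (by omega : s + (b + 1) ≠ 0)

theorem finrank_le_one {S : Submodule k k[X]} {u v : k[X]} (h : S ≤ Submodule.span k {u, v})
    (hn : ¬ (u ∈ S ∧ v ∈ S)) : Module.finrank k S ≤ 1 := by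
  classical
  haveI := FiniteDimensional.span_of_finite k (Set.toFinite ({u, v} : Set k[X]))
  have hlt : S < Submodule.span k {u, v} := lt_of_le_of_ne h fun he => hn
    ⟨he ▸ Submodule.subset_span (by simp), he ▸ Submodule.subset_span (by simp)⟩
  have h1 := Submodule.finrank_lt_finrank_of_lt hlt
  have h2 := finrank_span_le_card (R := k) ({u, v} : Set k[X])
  have h3 : ({u, v} : Set k[X]).toFinset.card ≤ 2 := by
    rw [Set.toFinset_insert, Set.toFinset_singleton]
    exact Finset.card_le_two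
  omega

theorem le_span_pair {S : Submodule k k[X]} {M : k[X]} (hM : M ≠ 0)
    (h : ∀ P ∈ S, M ∣ P ∧ P.natDegree ≤ M.natDegree + 1) : S ≤ Submodule.span k {M, X * M} := by
  intro P hP
  obtain ⟨⟨H, rfl⟩, hd⟩ := h P hP
  rcases eq_or_ne H 0 with rfl | h0
  · rw [mul_zero]; exact zero_mem _
  rw [natDegree_mul hM h0] at hd
  obtain ⟨c, d, rfl⟩ := exists_eq_X_add_C_of_natDegree_le_one (show H.natDegree ≤ 1 by omega)
  rw [Submodule.mem_span_pair]
  exact ⟨d, c, by rw [smul_eq_C_mul, smul_eq_C_mul]; ring⟩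

end Groth.Agent.Wronsk52
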