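import Groth.Agent.Wronsk52.Basic

namespace Groth.Agent.Wronsk52

open Polynomial

variable {k : Type*} [Field k]

theorem gen_deg_le {a b : ℕ} {P : k[X]}
    (hP : P ∈ (mult ((X : k[X]) ^ (a + 1)) ⊓ degreeLE k ↑(a + b)) ⊔
      (mult (((X : k[X]) - 1) ^ (b + 1)) ⊓ degreeLE k ↑(a + b)) ⊔
      Submodule.span k {(X : k[X]) ^ (a + 1) * (X - 1) ^ (b + 1)}) : P.natDegree ≤ a + b + 2 := by
  obtain ⟨U, U1, c, hU, hU1, rfl⟩ := decomp hP
  have h2 : (((X : k[X]) - 1) ^ (b + 1)).natDegree = b + 1 := by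
    rw [natDegree_pow, show ((X : k[X]) - 1).natDegree = 1 by simpa using natDegree_X_sub_C (1 : k), mul_one]
  have := natDegree_le_of_mem hU
  have := natDegree_le_of_mem hU1
  refine (natDegree_add_le _ _).trans (max_le ((natDegree_add_le _ _).trans (max_le ?_ ?_)) ?_)
  · refine natDegree_mul_le.trans ?_; omega
  · refine natDegree_mul_le.trans ?_; rw [natDegree_X_pow]; omega
  · refine (natDegree_C_mul_le _ _).trans (natDegree_mul_le.trans ?_); rw [natDegree_X_pow]; omega

theorem setup {a b i j : ℕ} (hij : i + j = a + 1 + b) (p q : k) (V : Submodule k k[X])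
    (hV : V = (mult ((X : k[X]) ^ (a + 1 + 1)) ⊓ degreeLE k ↑(a + 1 + b)) ⊔
      (mult (((X : k[X]) - 1) ^ (b + 1)) ⊓ degreeLE k ↑(a + 1 + b)) ⊔
      Submodule.span k {(X : k[X]) ^ (a + 1 + 1) * (X - 1) ^ (b + 1)})
    (h1 : 1 ≤ Module.finrank k ↥(V ⊓ mult ((X - C p) ^ (i + 1) * (X - C q) ^ (j + 1))))
    (h2 : 2 ≤ Module.finrank k ↥(V ⊓ mult ((X - C p) ^ i * (X - C q) ^ j))) :
    ∃ (U U1 U' U1' : k[X]) (c : k), U ∈ degreeLT k (a + 1) ∧ U1 ∈ degreeLT k b ∧ U' ∈ degreeLT k (a + 1) ∧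
      U1' ∈ degreeLT k b ∧
      (X - C p) ^ i * (X - C q) ^ j = U * (X - 1) ^ (b + 1) + X ^ (a + 2) * U1 ∧
      (X - C p) ^ (i + 1) * (X - C q) ^ (j + 1) =
        U' * (X - 1) ^ (b + 1) + X ^ (a + 2) * U1' + C c * (X ^ (a + 2) * (X - 1) ^ (b + 1)) := by
  set R := (X - C p) ^ (i + 1) * (X - C q) ^ (j + 1) with hR
  set M := (X - C p) ^ i * (X - C q) ^ j with hM
  have hRV : R ∈ V := by
    obtain ⟨P, hP, hP0⟩ := Submodule.exists_mem_ne_zero_of_ne_bot (p := V ⊓ mult R) (by
      intro h; rw [h, finrank_bot] at h1; omega)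
    obtain ⟨H, rfl⟩ := mem_mult.mp hP.2
    have hd := gen_deg_le (hV ▸ hP.1 :)
    have hH0 : H ≠ 0 := right_ne_zero_of_mul hP0
    rw [natDegree_mul (monicG p q _ _).ne_zero hH0, natDegree_M] at hd
    obtain ⟨c, rfl⟩ := natDegree_eq_zero.mp (show H.natDegree = 0 by omega)
    have hc : c ≠ 0 := fun h => hH0 (by rw [h, C_0])
    have := V.smul_mem c⁻¹ hP.1
    rwa [mul_comm R (C c), ← smul_eq_C_mul, inv_smul_smul₀ hc] at this
  have hMV : M ∈ V := by
    set S := V ⊓ mult M
    have hdeg : ∀ P ∈ S, ∃ H, P = M * H ∧ H.natDegree ≤ 2 := by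
      intro P hP
      obtain ⟨H, rfl⟩ := mem_mult.mp hP.2
      refine ⟨H, rfl, ?_⟩
      rcases eq_or_ne H 0 with rfl | hH0
      · simp
      have hd := gen_deg_le (hV ▸ hP.1 :)
      rw [natDegree_mul (monicG p q _ _).ne_zero hH0, natDegree_M] at hd
      omega
    haveI : FiniteDimensional k S := Module.finite_of_finrank_pos (by omega)
    have hlt : Module.finrank k ↥(Submodule.span k {R}) < Module.finrank k S :=
      lt_of_lt_of_le (lt_of_le_of_lt (by
        simpa using finrank_span_le_card (R := k) ({R} : Set k[X])) (by omega : 1 < 2)) h2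
    obtain ⟨P, hPS, hPR⟩ : ∃ P ∈ S, P ∉ Submodule.span k {R} := by
      by_contra hcon
      push Not at hcon
      exact absurd (Submodule.finrank_mono (show S ≤ Submodule.span k {R} from hcon)) (not_le.mpr hlt)
    obtain ⟨H, rfl, hH⟩ := hdeg P hPS
    set Q := M * H - C (H.coeff 2) * R with hQ
    have hQV : Q ∈ V := by rw [hQ, ← smul_eq_C_mul]; exact V.sub_mem hPS.1 (V.smul_mem _ hRV)
    set l := H - C (H.coeff 2) * ((X - C p) * (X - C q)) with hl
    have hQl : Q = M * l := by rw [hQ, hl, hR, hM]; ring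
    have hl0 : l ≠ 0 := by
      intro h
      apply hPR
      rw [Submodule.mem_span_singleton]
      refine ⟨H.coeff 2, ?_⟩
      rw [h, mul_zero] at hQl
      rw [smul_eq_C_mul]
      exact (sub_eq_zero.mp hQl).symm
    have hldeg : l.natDegree ≤ 1 := by
      rw [natDegree_le_iff_coeff_eq_zero]
      intro t ht
      have hg : ((X - C p) * (X - C q)).natDegree = 2 := by
        simpa using natDegree_M p q 1 1
      rw [hl, coeff_sub, coeff_C_mul]
      rcases eq_or_lt_of_le (show 2 ≤ t by omega) with rfl | h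
      · have := ((monic_X_sub_C p).mul (monic_X_sub_C q)).coeff_natDegree
        rw [hg] at this
        rw [this]; ring
      · rw [coeff_eq_zero_of_natDegree_lt (p := H) (by omega),
          coeff_eq_zero_of_natDegree_lt (p := (X - C p) * (X - C q)) (n := t) (by rw [hg]; omega)]; ring
    obtain ⟨U, U1, c, hU, hU1, he⟩ := decomp (hV ▸ hQV :)
    have hW : (X : k[X]) ^ (a + 1 + 1) * (X - 1) ^ (b + 1) = (X - C 0) ^ (a + 1 + 1) * (X - C 1) ^ (b + 1) := by simp
    have hb1 : ((X : k[X]) - 1).natDegree = 1 := by simpa using natDegree_X_sub_C (1 : k)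
    have hd1 : (U * (X - 1) ^ (b + 1) + X ^ (a + 1 + 1) * U1).natDegree ≤ a + 1 + b := by
      have e1 := natDegree_le_of_mem hU
      have e2 := natDegree_le_of_mem hU1
      refine (natDegree_add_le _ _).trans (max_le ?_ ?_)
      · refine natDegree_mul_le.trans ?_
        rw [natDegree_pow, hb1]; omega
      · rcases Nat.eq_zero_or_pos b with hb0 | hb0
        · subst hb0
          rw [show U1 = 0 from Polynomial.ext fun t => by rw [coeff_eq_zero_of_mem hU1 (Nat.zero_le t), coeff_zero]]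
          simp
        · refine natDegree_mul_le.trans ?_
          rw [natDegree_X_pow]; omega
    have hc : c = 0 := by
      have e := congrArg (fun P : k[X] => P.coeff (a + 1 + 1 + (b + 1))) (hQl.symm.trans he)
      simp only [coeff_add, coeff_C_mul] at e
      rw [← coeff_add, coeff_eq_zero_of_natDegree_lt (p := U * _ + _) (by omega), hW,
        ← natDegree_M (0 : k) 1, (monicG (0 : k) 1 _ _).coeff_natDegree, natDegree_M,
        coeff_eq_zero_of_natDegree_lt (lt_of_le_of_lt natDegree_mul_le (by rw [natDegree_M]; omega))] at e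
      linear_combination -e
    subst hc
    rw [C_0, zero_mul, add_zero] at he
    rw [← he, hQl, natDegree_mul (monicG p q i j).ne_zero hl0, natDegree_M] at hd1
    obtain ⟨d, hd⟩ := natDegree_eq_zero.mp (show l.natDegree = 0 by omega)
    have hd0 : d ≠ 0 := fun h => hl0 (by rw [← hd, h, C_0])
    have := V.smul_mem d⁻¹ hQV
    rwa [hQl, ← hd, mul_comm M (C d), ← smul_eq_C_mul, inv_smul_smul₀ hd0] at this
  obtain ⟨U, U1, c, hU, hU1, hM'⟩ := decomp (hV ▸ hMV :)
  obtain ⟨U', U1', c', hU', hU1', hR'⟩ := decomp (hV ▸ hRV :)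
  have hW : (X : k[X]) ^ (a + 1 + 1) * (X - 1) ^ (b + 1) = (X - C 0) ^ (a + 1 + 1) * (X - C 1) ^ (b + 1) := by simp
  have hc : c = 0 := by
    have e := congrArg (fun P : k[X] => P.coeff (a + 1 + 1 + (b + 1))) hM'
    simp only [coeff_add, coeff_C_mul] at e
    have z1 : (U * (X - 1) ^ (b + 1)).coeff (a + 1 + 1 + (b + 1)) = 0 := by
      refine coeff_eq_zero_of_natDegree_lt (lt_of_le_of_lt natDegree_mul_le ?_)
      rw [natDegree_pow, show ((X : k[X]) - 1).natDegree = 1 by simpa using natDegree_X_sub_C (1 : k)]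
      have := natDegree_le_of_mem hU; omega
    rw [z1, coeff_X_pow_mul', if_pos (by omega), coeff_eq_zero_of_mem hU1 (by omega), hW,
      ← natDegree_M (0 : k) 1, (monicG (0 : k) 1 _ _).coeff_natDegree, natDegree_M,
      coeff_eq_zero_of_natDegree_lt (p := M) (by rw [hM, natDegree_M]; omega)] at e
    linear_combination -e
  subst hc
  rw [C_0, zero_mul, add_zero] at hM'
  exact ⟨U, U1, U', U1', c', hU, hU1, hU', hU1', hM', hR'⟩

end Groth.Agent.Wronsk52
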